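import Groth.Agent.L21.PushStab.Main
import Groth.Agent.L21.TFNodal.Modif

/-!
Direct images along a finite birational map: local modules over the integral closure.
-/

set_option autoImplicit false
set_option backward.isDefEq.respectTransparency false
set_option backward.isDefEq.respectTransparency.types false
set_option linter.style.haveILetI false
set_option maxHeartbeats 1000000
set_option synthInstance.maxHeartbeats 400000

universe u

open CategoryTheory CategoryTheory.Limits AlgebraicGeometry TopologicalSpace TensorProduct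

noncomputable section

namespace Groth.L21.PushNorm

open Groth.L21.TFNodal (Generates pushModule)

variable {X Y : Scheme.{u}} (π : Y ⟶ X) [IsFinite π] {U : X.Opens} [IsIso (π ∣_ U)]

theorem injective_stalk_unit {F : X.Modules} [Coh.IsQCoh F] {x : X} (hx : x ∈ U) :
    Function.Injective
      ((Groth.L00.Stk.F X x).map ((Scheme.Modules.pullbackPushforwardAdjunction π).unit.app F)).hom := by
  haveI : Coh.IsQCoh ((Scheme.Modules.pullback π).obj F) := Groth.L16.AffineBC.isQCoh_pullback π F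
  obtain ⟨V, hV, hxV, hVU⟩ := exists_isAffineOpen_mem_and_subset (x := x) (U := U) hx
  haveI := Groth.L07.BlowLib.isIso_app_of_le π (C := U) inferInstance V hVU
  haveI : Coh.IsQCoh ((𝟭 X.Modules).obj F) := inferInstanceAs (Coh.IsQCoh F)
  refine Groth.L21.TFNodal.injective_stalk_of_app_injective _ hV hxV ?_
    (Groth.L20.ModStalk.isLocalizedModule_germ_push π _ hV (hV.preimage π) hxV)
  letI := (π.app V).hom.toAlgebra
  letI := pushModule (π := π) ((Scheme.Modules.pullback π).obj F) V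
  haveI : IsScalarTower Γ(X, V) Γ(Y, π ⁻¹ᵁ V)
      Γ((Scheme.Modules.pushforward π).obj ((Scheme.Modules.pullback π).obj F), V) :=
    IsScalarTower.of_algebraMap_smul fun _ _ => rfl
  obtain ⟨u, hu, hbc⟩ := Groth.L21.TFNodal.isBaseChange_unit (π := π) F hV
  let c : Γ(Y, π ⁻¹ᵁ V) ≃ₗ[Γ(X, V)] Γ(X, V) := (LinearEquiv.ofBijective (Algebra.linearMap Γ(X, V) Γ(Y, π ⁻¹ᵁ V))
    (ConcreteCategory.bijective_of_isIso (π.app V))).symm
  have hmk : ∀ s : Γ(F, V), u s = hbc.equiv ((1 : Γ(Y, π ⁻¹ᵁ V)) ⊗ₜ s) := fun s => by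
    rw [IsBaseChange.equiv_tmul, one_smul]
  intro s t hst
  have hst' : u s = u t := (hu s).trans (hst.trans (hu t).symm)
  rw [hmk, hmk] at hst'
  have h2 := congrArg (TensorProduct.lid Γ(X, V) Γ(F, V) ∘ TensorProduct.congr c (LinearEquiv.refl _ _))
    (hbc.equiv.injective hst')
  have hc1 : c 1 = 1 := by
    rw [LinearEquiv.symm_apply_eq]
    exact ((π.app V).hom.map_one).symm
  simp only [Function.comp_apply, TensorProduct.congr_tmul, LinearEquiv.refl_apply, TensorProduct.lid_tmul, hc1,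
    one_smul] at h2
  exact h2

theorem isIso_restrict_of_le {W V : X.Opens} (h : W ≤ V) (hV : IsIso (π ∣_ V)) : IsIso (π ∣_ W) := by
  haveI : IsIso ((π ∣_ V) ∣_ (V.ι ⁻¹ᵁ W)) := inferInstance
  have h1 : IsIso (π ∣_ (V.ι ''ᵁ (V.ι ⁻¹ᵁ W))) :=
    ((MorphismProperty.isomorphisms Scheme.{u}).arrow_mk_iso_iff (morphismRestrictRestrict π V (V.ι ⁻¹ᵁ W))).mp this
  rwa [show V.ι ''ᵁ (V.ι ⁻¹ᵁ W) = W by
    rw [Scheme.Hom.image_preimage_eq_opensRange_inf, Scheme.Opens.opensRange_ι, inf_eq_right.mpr h]] at h1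

theorem injective_stalk_upstairs {F : X.Modules} {A B : Y.Modules} [Coh.IsQCoh A] [Coh.IsQCoh B]
    (φ : F ⟶ (Scheme.Modules.pushforward π).obj A) (hgen : Generates φ) (q : A ⟶ B)
    [Mono (φ ≫ (Scheme.Modules.pushforward π).map q)] {y : Y} (hy : π y ∈ U) :
    Function.Injective ((Groth.L00.Stk.F Y y).map q).hom := by
  obtain ⟨V, hV, hxV, hVU⟩ := exists_isAffineOpen_mem_and_subset (x := π y) (U := U) hy
  haveI := Groth.L07.BlowLib.isIso_app_of_le π (C := U) inferInstance V hVU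
  refine Groth.L21.TFNodal.injective_stalk_of_app_injective q (hV.preimage π) (show y ∈ π ⁻¹ᵁ V from hxV) ?_
    (Groth.L20.ModStalk.isLocalizedModule_germ B (hV.preimage π) _)
  letI := pushModule (π := π) A V
  have hsurj : Function.Surjective (φ.app V) := by
    intro z
    have hz : z ∈ Submodule.span Γ(Y, π ⁻¹ᵁ V) (Set.range (φ.app V)) := (hgen V hV).symm ▸ Submodule.mem_top
    refine Submodule.closure_induction (p := fun z _ => ∃ s, φ.app V s = z) ⟨0, map_zero _⟩
      (fun a b _ _ ⟨s, hs⟩ ⟨t, ht⟩ => ⟨s + t, by rw [map_add, hs, ht]⟩) ?_ hz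
    rintro b _ ⟨s, rfl⟩
    obtain ⟨a, rfl⟩ := (ConcreteCategory.bijective_of_isIso (π.app V)).2 b
    exact ⟨a • s, φ.app_smul a s⟩
  have hm : Function.Injective ((φ ≫ (Scheme.Modules.pushforward π).map q).app V) := by
    intro s t hst
    refine TopCat.Presheaf.section_ext ⟨F.presheaf, F.isSheaf⟩ V s t fun z hz => ?_
    refine (Groth.L21.Mod.mono_iff_stalk_injective _).1 ‹_› z ?_
    rw [Groth.L21.Mod.stalkF_map_germ, Groth.L21.Mod.stalkF_map_germ, hst]
  intro z w hzw
  obtain ⟨s, rfl⟩ := hsurj z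
  obtain ⟨t, rfl⟩ := hsurj w
  exact congrArg (φ.app V) (hm hzw)

omit [IsIso (π ∣_ U)] in
/-- The counit of a finite map is an epimorphism. -/
theorem epi_counit (E : Y.Modules) [Coh.IsQCoh E] :
    Epi ((Scheme.Modules.pullbackPushforwardAdjunction π).counit.app E) := by
  let adj := Scheme.Modules.pullbackPushforwardAdjunction π
  refine (Groth.L21.Mod.epi_iff_stalk_surjective _).2 fun y => ?_
  intro (v : E.presheaf.stalk y)
  obtain ⟨V, hV, hxV, -⟩ := exists_isAffineOpen_mem_and_subset (TopologicalSpace.Opens.mem_top (π y))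
  have hy : y ∈ π ⁻¹ᵁ V := hxV
  letI := Y.presheaf.algebra_section_stalk ⟨y, hy⟩
  haveI := (hV.preimage π).isLocalization_stalk ⟨y, hy⟩
  letI := Groth.L20.ModStalk.stalkModule E hy
  haveI := Groth.L20.ModStalk.isLocalizedModule_germ E (hV.preimage π) hy
  obtain ⟨⟨s, t⟩, hst⟩ := IsLocalizedModule.surj ((hV.preimage π).primeIdealOf ⟨y, hy⟩).asIdeal.primeCompl
    (Groth.L20.ModStalk.germₗ E hy) v
  obtain ⟨w, hw⟩ := (IsLocalization.map_units (Y.presheaf.stalk y) t).exists_left_inv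
  let P := (Scheme.Modules.pushforward π).obj E
  let s' : Γ((Scheme.Modules.pullback π).obj P, π ⁻¹ᵁ V) := (adj.unit.app P).app V s
  have hs : (adj.counit.app E).app (π ⁻¹ᵁ V) s' = s :=
    congr($(congrArg (fun φ => Scheme.Modules.Hom.app φ V) (adj.right_triangle_components E)) s)
  refine ⟨w • ((Scheme.Modules.pullback π).obj P).presheaf.germ (π ⁻¹ᵁ V) y hy s', ?_⟩
  have h1 : ((Groth.L00.Stk.F Y y).map (adj.counit.app E)).hom
      (((Scheme.Modules.pullback π).obj P).presheaf.germ (π ⁻¹ᵁ V) y hy s') =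
      (show E.presheaf.stalk y from (t : Γ(Y, π ⁻¹ᵁ V)) • v) :=
    (Groth.L21.Mod.stalkF_map_germ (adj.counit.app E) (π ⁻¹ᵁ V) y hy s').trans
      ((congrArg (E.presheaf.germ (π ⁻¹ᵁ V) y hy) hs).trans hst.symm)
  show ((Groth.L00.Stk.F Y y).map (adj.counit.app E)).hom (w • _) = v
  rw [map_smul]
  refine (congrArg (w • ·) h1).trans ?_
  show w • (Y.presheaf.germ (π ⁻¹ᵁ V) y hy (t : Γ(Y, π ⁻¹ᵁ V)) • v) = v
  rw [smul_smul]
  exact (congrArg (· • v) hw).trans (one_smul _ v)

theorem nonempty_iso_of_push [IsLocallyNoetherian Y] [AlgebraicGeometry.IsReduced Y]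
    (hU : Dense ((π ⁻¹ᵁ U : Y.Opens) : Set Y)) {E E' : Y.Modules} [Coh.IsQCoh E] [Coh.IsQCoh E']
    [Coh.IsQCoh ((Scheme.Modules.pushforward π).obj E)] [Coh.IsQCoh ((Scheme.Modules.pushforward π).obj E')]
    (hE : TorSh.IsTorsionFree E) (hE' : TorSh.IsTorsionFree E')
    (φ : (Scheme.Modules.pushforward π).obj E ≅ (Scheme.Modules.pushforward π).obj E') : Nonempty (E ≅ E') := by
  let adj := Scheme.Modules.pullbackPushforwardAdjunction π
  let R := Scheme.Modules.pushforward π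
  have hext : ∀ {A B : Y.Modules} [Coh.IsQCoh A] (u v : A ⟶ B), R.map u = R.map v → u = v := fun {A B} _ u v h => by
    haveI := epi_counit π A
    rw [← cancel_epi (adj.counit.app A)]
    have n1 := adj.counit.naturality u
    have n2 := adj.counit.naturality v
    simp only [Functor.comp_map, Functor.id_map] at n1 n2
    exact n1.symm.trans ((congrArg (fun t => (Scheme.Modules.pullback π).map t ≫ _) h).trans n2)
  have key : ∀ {A B : Y.Modules} [Coh.IsQCoh A] [Coh.IsQCoh (R.obj A)], TorSh.IsTorsionFree B → Coh.IsQCoh B →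
      ∀ f : R.obj A ⟶ R.obj B, ∃ l : A ⟶ B, R.map l = f := fun {A B} _ _ hB hBq f => by
    haveI := hBq
    haveI : Epi (adj.counit.app A) := epi_counit π A
    haveI : Coh.IsQCoh ((Scheme.Modules.pullback π).obj (R.obj A)) := Groth.L16.AffineBC.isQCoh_pullback π _
    haveI : Coh.IsQCoh ((𝟭 Y.Modules).obj A) := inferInstanceAs (Coh.IsQCoh A)
    haveI : Coh.IsQCoh ((𝟭 X.Modules).obj (R.obj A)) := inferInstanceAs (Coh.IsQCoh (R.obj A))
    haveI : Mono (adj.unit.app (R.obj A) ≫ R.map (adj.counit.app A)) := by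
      rw [adj.right_triangle_components]; infer_instance
    let g : (Scheme.Modules.pullback π).obj (R.obj A) ⟶ B := (adj.homEquiv (R.obj A) B).symm f
    have hk : kernel.ι (adj.counit.app A) ≫ g = 0 := by
      refine Groth.L21.TFNodal.eq_zero_of_stalk_dense hB _ _ hU fun y hy v => ?_
      have hinj := injective_stalk_upstairs π (adj.unit.app (R.obj A))
        (Groth.L21.TFNodal.generates_unit (R.obj A)) (adj.counit.app A) (y := y) hy
      have h0 : ((Groth.L00.Stk.F Y y).map (kernel.ι (adj.counit.app A))).hom v = 0 := by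
        refine hinj ?_
        rw [map_zero]
        show ((Groth.L00.Stk.F Y y).map (kernel.ι (adj.counit.app A)) ≫
          (Groth.L00.Stk.F Y y).map (adj.counit.app A)).hom v = 0
        rw [← Functor.map_comp, kernel.condition, Functor.map_zero]
        rfl
      rw [Functor.map_comp, ModuleCat.hom_comp, LinearMap.comp_apply, h0, map_zero]
    let l : A ⟶ B := (Abelian.epiIsCokernelOfKernel _ (kernelIsKernel (adj.counit.app A))).desc (CokernelCofork.ofπ g hk)
    have hl : adj.counit.app A ≫ l = g :=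
      (Abelian.epiIsCokernelOfKernel _ (kernelIsKernel (adj.counit.app A))).fac (CokernelCofork.ofπ g hk)
        WalkingParallelPair.one
    refine ⟨l, ?_⟩
    have h1 : adj.unit.app (R.obj A) ≫ R.map (adj.counit.app A) = 𝟙 (R.obj A) := adj.right_triangle_components A
    calc R.map l = (adj.unit.app (R.obj A) ≫ R.map (adj.counit.app A)) ≫ R.map l :=
          ((Category.id_comp _).symm.trans (congrArg (· ≫ R.map l) h1.symm))
      _ = adj.unit.app (R.obj A) ≫ R.map g :=
          (Category.assoc _ _ _).trans (congrArg _ ((R.map_comp _ _).symm.trans (congrArg R.map hl)))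
      _ = f := (adj.homEquiv_unit (R.obj A) B g).symm.trans ((adj.homEquiv _ _).apply_symm_apply f)
  obtain ⟨l, hl⟩ := key (A := E) hE' ‹_› φ.hom
  obtain ⟨l', hl'⟩ := key (A := E') hE ‹_› φ.inv
  exact ⟨⟨l, l', hext _ _ (by rw [Functor.map_comp, hl, hl', CategoryTheory.Functor.map_id, Iso.hom_inv_id]),
    hext _ _ (by rw [Functor.map_comp, hl, hl', CategoryTheory.Functor.map_id, Iso.inv_hom_id])⟩⟩

omit [IsIso (π ∣_ U)] in
/-- A generated module is everything if the source is divisible by integral elements. -/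
theorem surjective_of_divisible [IsIntegral X] [IsIntegral Y] [IsLocallyNoetherian X] [IsDominant π] {F : X.Modules} {G : Y.Modules}
    [Coh.IsQCoh G] (hU : IsIso (π ∣_ U)) (hUne : (U : Set X).Nonempty)
    (β : F ⟶ (Scheme.Modules.pushforward π).obj G) (hgen : Generates β)
    (htf : ∀ x : X, ∀ c : X.presheaf.stalk x, c ≠ 0 →
      IsSMulRegular (((Scheme.Modules.pushforward π).obj G).presheaf.stalk x) c)
    (hdiv : ∀ (x : X) (a c : X.presheaf.stalk x) (z : X.functionField), c ≠ 0 →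
      z * algebraMap (X.presheaf.stalk x) X.functionField c = algebraMap (X.presheaf.stalk x) X.functionField a →
      IsIntegral (X.presheaf.stalk x) z → ∀ v : F.presheaf.stalk x, ∃ v', c • v' = a • v) (x : X) :
    Function.Surjective ((Groth.L00.Stk.F X x).map β).hom := by
  haveI := hU
  obtain ⟨V, hV, hxV, -⟩ := exists_isAffineOpen_mem_and_subset (TopologicalSpace.Opens.mem_top x)
  let P := (Scheme.Modules.pushforward π).obj G
  letI := X.presheaf.algebra_section_stalk ⟨x, hxV⟩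
  haveI : IsLocalization.AtPrime (X.presheaf.stalk x) (hV.primeIdealOf ⟨x, hxV⟩).asIdeal :=
    hV.isLocalization_stalk ⟨x, hxV⟩
  letI := Groth.L20.ModStalk.stalkModule P hxV
  haveI := Groth.L20.ModStalk.isLocalizedModule_germ_push π G hV (hV.preimage π) hxV
  letI algAB : Algebra Γ(X, V) Γ(Y, π ⁻¹ᵁ V) := (π.app V).hom.toAlgebra
  haveI : Module.Finite Γ(X, V) Γ(Y, π ⁻¹ᵁ V) := π.finite_app V hV
  letI := pushModule (π := π) G V
  haveI : Nonempty V := ⟨⟨x, hxV⟩⟩
  haveI hneV : Nonempty ↥(π ⁻¹ᵁ V) := by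
    obtain ⟨y, hy⟩ := π.denseRange.exists_mem_open V.2 ⟨x, hxV⟩
    exact ⟨⟨y, hy⟩⟩
  obtain ⟨W, hW, hWV, hWne⟩ : ∃ W : X.Opens, IsIso (π ∣_ W) ∧ W ≤ U ⊓ V ∧ (W : Set X).Nonempty :=
    ⟨U ⊓ V, isIso_restrict_of_le π (V := U) inf_le_left hU, le_rfl, by
      obtain ⟨u, hu⟩ := hUne
      exact ⟨genericPoint X, ((genericPoint_spec X).mem_open_set_iff U.2).2 ⟨u, trivial, hu⟩,
        ((genericPoint_spec X).mem_open_set_iff V.2).2 ⟨x, trivial, hxV⟩⟩⟩
  haveI := hW
  obtain ⟨f, hf0, hfW⟩ : ∃ f : Γ(X, V), f ≠ 0 ∧ X.basicOpen f ≤ W := by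
    obtain ⟨w, hw⟩ := hWne
    obtain ⟨f, hf, hwf⟩ := hV.exists_basicOpen_le (V := W) ⟨w, hw⟩ (hWV hw).2
    exact ⟨f, fun h => by subst h; simp at hwf, hf⟩
  haveI : IsDomain Γ(Y, π ⁻¹ᵁ V) := @IsIntegral.component_integral Y _ (π ⁻¹ᵁ V) hneV
  have hinj : Function.Injective (algebraMap Γ(X, V) Γ(Y, π ⁻¹ᵁ V)) :=
    Groth.L21.NormRed.app_injective π (U.2.dense hUne) V
  have hfB : algebraMap Γ(X, V) Γ(Y, π ⁻¹ᵁ V) f ∈ nonZeroDivisors _ :=
    mem_nonZeroDivisors_of_ne_zero ((map_ne_zero_iff _ hinj).2 hf0)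
  have hclear := Groth.L21.NormRed.exists_pow_mul_eq (U := W) π hV f hfW hfB
  have hβ : ∀ s, ((Groth.L00.Stk.F X x).map β).hom (F.presheaf.germ V x hxV s) =
      Groth.L20.ModStalk.germₗ P hxV (β.app V s) := fun s => Groth.L21.Mod.stalkF_map_germ β V x hxV s
  have hall : ∀ e : Γ(P, V), Groth.L20.ModStalk.germₗ P hxV e ∈ LinearMap.range ((Groth.L00.Stk.F X x).map β).hom := by
    intro e
    have he : e ∈ Submodule.span Γ(Y, π ⁻¹ᵁ V) (Set.range (β.app V)) := (hgen V hV).symm ▸ Submodule.mem_top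
    refine Submodule.closure_induction (p := fun e _ =>
      Groth.L20.ModStalk.germₗ P hxV e ∈ LinearMap.range ((Groth.L00.Stk.F X x).map β).hom)
      (by rw [map_zero]; exact zero_mem _) (fun a b _ _ ha hb => by rw [map_add]; exact add_mem ha hb) ?_ he
    rintro b _ ⟨s, rfl⟩
    obtain ⟨m, r, hr⟩ := hclear b
    replace hr : algebraMap Γ(X, V) Γ(Y, π ⁻¹ᵁ V) f ^ m * b = algebraMap _ _ r := hr
    obtain ⟨p, hp, hpb⟩ := (Algebra.IsIntegral.isIntegral (R := Γ(X, V)) b : IsIntegral Γ(X, V) b)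
    have hroot : (p.scaleRoots (f ^ m)).eval r = 0 := by
      refine hinj ?_
      rw [map_zero, ← Polynomial.eval₂_at_apply, ← hr, ← map_pow]
      exact Polynomial.scaleRoots_eval₂_eq_zero (algebraMap Γ(X, V) Γ(Y, π ⁻¹ᵁ V)) hpb
    let jA := algebraMap Γ(X, V) (X.presheaf.stalk x)
    let jK := algebraMap (X.presheaf.stalk x) X.functionField
    have hjA : Function.Injective jA := fun a b hab => by
      exact germ_injective_of_isIntegral X x hxV hab
    have hc : jA (f ^ m) ≠ 0 := (map_ne_zero_iff _ hjA).2 (pow_ne_zero m hf0)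
    have hcK : jK (jA (f ^ m)) ≠ 0 := (map_ne_zero_iff _ (IsFractionRing.injective _ _)).2 hc
    let z := jK (jA r) / jK (jA (f ^ m))
    have hz : IsIntegral (X.presheaf.stalk x) z := by
      refine ⟨p.map jA, hp.map jA, ?_⟩
      rw [Polynomial.eval₂_map]
      have h0 : (p.scaleRoots (f ^ m)).eval₂ (jK.comp jA) (jK (jA (f ^ m)) * z) = 0 := by
        rw [mul_div_cancel₀ _ hcK, show jK (jA r) = (jK.comp jA) r from rfl, Polynomial.eval₂_at_apply, hroot,
          map_zero]
      rw [show jK (jA (f ^ m)) = (jK.comp jA) (f ^ m) from rfl, Polynomial.scaleRoots_eval₂_mul] at h0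
      exact (mul_eq_zero.1 h0).resolve_left (pow_ne_zero _ hcK)
    obtain ⟨v', hv'⟩ := hdiv x (jA r) (jA (f ^ m)) z hc (div_mul_cancel₀ _ hcK) hz (F.presheaf.germ V x hxV s)
    refine ⟨v', htf x _ hc ?_⟩
    show jA (f ^ m) • ((Groth.L00.Stk.F X x).map β).hom v' = (f ^ m : Γ(X, V)) • Groth.L20.ModStalk.germₗ P hxV _
    rw [← map_smul, hv', map_smul, hβ, ← map_smul (Groth.L20.ModStalk.germₗ P hxV) (f ^ m)]
    show (show Γ(X, V) from r) • Groth.L20.ModStalk.germₗ P hxV (β.app V s) = _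
    rw [← map_smul (Groth.L20.ModStalk.germₗ P hxV) r]
    refine congrArg _ ?_
    show (algebraMap Γ(X, V) Γ(Y, π ⁻¹ᵁ V) r) • (β.app V s : Γ(P, V)) =
      (algebraMap Γ(X, V) Γ(Y, π ⁻¹ᵁ V) (f ^ m)) • (b • (β.app V s : Γ(P, V)))
    rw [smul_smul, map_pow, hr]
  intro (v : P.presheaf.stalk x)
  obtain ⟨⟨e, t⟩, het⟩ := IsLocalizedModule.surj (hV.primeIdealOf ⟨x, hxV⟩).asIdeal.primeCompl
    (Groth.L20.ModStalk.germₗ P hxV) v
  obtain ⟨w, hw⟩ := (IsLocalization.map_units (X.presheaf.stalk x) t).exists_left_inv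
  obtain ⟨v', hv'⟩ := hall e
  refine ⟨w • v', ?_⟩
  rw [map_smul, hv', ← het]
  show w • (X.presheaf.germ V x hxV (t : Γ(X, V)) • v) = v
  rw [smul_smul]
  exact (congrArg (· • v) hw).trans (one_smul _ v)


omit [IsFinite π] [IsIso (π ∣_ U)] in
/-- Direct images of torsion-free modules of integral schemes along maps injective on functions. -/
theorem isTorsionFree_push [IsIntegral Y] (hinj : ∀ V : X.Opens, Function.Injective (π.app V).hom)
    {E : Y.Modules} (hE : TorSh.IsTorsionFree E) :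
    TorSh.IsTorsionFree ((Scheme.Modules.pushforward π).obj E) := by
  intro x
  let P := (Scheme.Modules.pushforward π).obj E
  refine ⟨fun r hr => fun a b hab => ?_⟩
  have hr0 : r ≠ 0 := hr.ne_zero
  rw [← sub_eq_zero]
  have hab0 : r • (a - b) = 0 := by rw [smul_sub]; exact sub_eq_zero.2 hab
  generalize a - b = m at hab0 ⊢
  obtain ⟨U', hxU, s, rfl⟩ := TopCat.Presheaf.exists_germ_eq P.presheaf m
  obtain ⟨W, hxW, c, rfl⟩ := TopCat.Presheaf.exists_germ_eq X.presheaf r
  let V := W ⊓ U'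
  have hxV : x ∈ V := ⟨hxW, hxU⟩
  let s' : Γ(P, V) := Groth.L18.Frame.rs _ (inf_le_right : V ≤ U') s
  let c' : Γ(X, V) := Groth.L18.Frame.ro (inf_le_left : V ≤ W) c
  have e1 : P.presheaf.germ V x hxV (c' • s') = 0 := by
    rw [Groth.L20.ModStalk.germ_smul]
    simp only [c', s', Groth.L18.Frame.ro, Groth.L20.ModStalk.germ_rs, TopCat.Presheaf.germ_res_apply]
    exact hab0
  obtain ⟨V', hxV', i₁, i₂, he⟩ := P.presheaf.germ_eq x hxV hxV _ 0 (e1.trans (map_zero _).symm)
  let c'' : Γ(X, V') := Groth.L18.Frame.ro i₁.le c'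
  let s'' : Γ(P, V') := Groth.L18.Frame.rs _ i₁.le s'
  have h0 : c'' • s'' = 0 := (Groth.L18.Frame.rs_smul _ i₁.le c' s').symm.trans (he.trans (map_zero _))
  have hc'' : c'' ≠ 0 := fun h => hr0 (by
    have := congrArg (X.presheaf.germ V' x hxV') h
    simp only [c'', c', Groth.L18.Frame.ro, TopCat.Presheaf.germ_res_apply, map_zero] at this
    exact this)
  have hs0 : (show Γ(E, π ⁻¹ᵁ V') from s'') = 0 := by
    refine TopCat.Presheaf.section_ext ⟨E.presheaf, E.isSheaf⟩ _ _ _ fun w hw => ?_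
    rw [map_zero]
    have h1 : Y.presheaf.germ (π ⁻¹ᵁ V') w hw ((π.app V').hom c'') •
        E.presheaf.germ (π ⁻¹ᵁ V') w hw (show Γ(E, π ⁻¹ᵁ V') from s'') = 0 := by
      rw [← Groth.L20.ModStalk.germ_smul, show (π.app V').hom c'' • (show Γ(E, π ⁻¹ᵁ V') from s'') = 0 from h0]
      exact map_zero _
    have h2 : Y.presheaf.germ (π ⁻¹ᵁ V') w hw ((π.app V').hom c'') ≠ 0 := fun h =>
      hc'' (hinj V' ((germ_injective_of_isIntegral (X := Y) (U := π ⁻¹ᵁ V') w hw (h.trans (map_zero _).symm)).trans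
        (map_zero _).symm))
    haveI := hE w
    exact (smul_eq_zero.1 h1).resolve_left h2
  have := congrArg (P.presheaf.germ V' x hxV') (show s'' = 0 from hs0)
  rw [map_zero] at this
  simpa only [s'', s', Groth.L20.ModStalk.germ_rs] using this

end Groth.L21.PushNorm
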